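/-
Maps pointed of degree 2.
-/
import Mathlib

set_option autoImplicit false

universe u v

namespace Groth.Agent.DegTwoLib

variable {A : Type u} {G : Type v} [AddCommGroup A] [AddCommGroup G] (f : A → G)
  (hf : ∀ x y z : A, f (x + y + z) + f x + f y + f z = f (x + y) + f (x + z) + f (y + z))

include hf in
theorem map_zero : f 0 = 0 := by
  have h := hf 0 0 0
  simp only [add_zero] at h
  have : f 0 + (f 0 + f 0 + f 0) = 0 + (f 0 + f 0 + f 0) := by rw [zero_add]; rw [← add_assoc, ← add_assoc]; exact h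
  exact add_right_cancel this

include hf in
theorem step (n : ℤ) (x : A) : f ((n + 1) • x) + f ((n - 1) • x) = f (n • x) + f (n • x) + f x + f (-x) := by
  have h := hf (n • x) x (-x)
  rw [add_neg_cancel, map_zero f hf, add_zero, add_neg_cancel_right] at h
  rw [add_smul, sub_smul, one_smul, sub_eq_add_neg]
  exact h.symm

include hf in
theorem map_zsmul (n : ℤ) (x : A) :
    f (n • x) = (n * (n + 1) / 2) • f x + (n * (n - 1) / 2) • f (-x) := by
  suffices h : ∀ n : ℤ, f (n • x) = (n * (n + 1) / 2) • f x + (n * (n - 1) / 2) • f (-x) ∧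
      f ((n + 1) • x) = ((n + 1) * (n + 1 + 1) / 2) • f x + ((n + 1) * n / 2) • f (-x) from (h n).1
  intro n
  induction n using Int.induction_on with
  | zero => simp [map_zero f hf]
  | succ k ih =>
    refine ⟨by simpa using ih.2, ?_⟩
    have hs := step f hf (k + 1) x
    rw [add_sub_cancel_right, ih.1, ih.2] at hs
    rw [show ((k : ℤ) + 1 + 1) * (k + 1 + 1 + 1) / 2 = 2 * ((k + 1) * (k + 1 + 1) / 2) - k * (k + 1) / 2 + 1 by
        obtain ⟨a, ha⟩ := Int.even_mul_succ_self (k : ℤ)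
        rw [show (k : ℤ) * (k + 1) = a * 2 by linarith, Int.mul_ediv_cancel _ (by norm_num : (2:ℤ) ≠ 0),
          show ((k : ℤ) + 1) * (k + 1 + 1) = (a + k + 1) * 2 by linarith, Int.mul_ediv_cancel _ (by norm_num : (2:ℤ) ≠ 0),
          show ((k : ℤ) + 1 + 1) * (k + 1 + 1 + 1) = (a + 2 * k + 3) * 2 by linarith, Int.mul_ediv_cancel _ (by norm_num : (2:ℤ) ≠ 0)]
        ring,
      show ((k : ℤ) + 1 + 1) * (k + 1) / 2 = 2 * ((k + 1) * k / 2) - k * (k - 1) / 2 + 1 by
        obtain ⟨a, ha⟩ := Int.even_mul_pred_self (k : ℤ)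
        rw [show (k : ℤ) * (k - 1) = a * 2 by linarith, Int.mul_ediv_cancel _ (by norm_num : (2:ℤ) ≠ 0),
          show ((k : ℤ) + 1) * k = (a + k) * 2 by linarith, Int.mul_ediv_cancel _ (by norm_num : (2:ℤ) ≠ 0),
          show ((k : ℤ) + 1 + 1) * (k + 1) = (a + 2 * k + 1) * 2 by linarith, Int.mul_ediv_cancel _ (by norm_num : (2:ℤ) ≠ 0)]
        ring]
    rw [eq_sub_of_add_eq hs]
    module
  | pred k ih =>
    refine ⟨?_, by simpa using ih.1⟩
    have hs := step f hf (-(k : ℤ)) x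
    rw [ih.1, ih.2] at hs
    rw [show (-(k : ℤ) - 1) * (-k - 1 + 1) / 2 = 2 * (-(k:ℤ) * (-k + 1) / 2) - (-k + 1) * (-k + 1 + 1) / 2 + 1 by
        obtain ⟨a, ha⟩ := Int.even_mul_succ_self (-(k : ℤ))
        rw [show -(k : ℤ) * (-k + 1) = a * 2 by linarith, Int.mul_ediv_cancel _ (by norm_num : (2:ℤ) ≠ 0),
          show (-(k : ℤ) + 1) * (-k + 1 + 1) = (a - k + 1) * 2 by linarith, Int.mul_ediv_cancel _ (by norm_num : (2:ℤ) ≠ 0),
          show (-(k : ℤ) - 1) * (-k - 1 + 1) = (a + k) * 2 by linarith, Int.mul_ediv_cancel _ (by norm_num : (2:ℤ) ≠ 0)]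
        ring,
      show (-(k : ℤ) - 1) * (-k - 1 - 1) / 2 = 2 * (-(k:ℤ) * (-k - 1) / 2) - (-k + 1) * -k / 2 + 1 by
        obtain ⟨a, ha⟩ := Int.even_mul_pred_self (-(k : ℤ))
        rw [show -(k : ℤ) * (-k - 1) = a * 2 by linarith, Int.mul_ediv_cancel _ (by norm_num : (2:ℤ) ≠ 0),
          show (-(k : ℤ) + 1) * -k = (a - k) * 2 by linarith, Int.mul_ediv_cancel _ (by norm_num : (2:ℤ) ≠ 0),
          show (-(k : ℤ) - 1) * (-k - 1 - 1) = (a + k + 1) * 2 by linarith, Int.mul_ediv_cancel _ (by norm_num : (2:ℤ) ≠ 0)]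
        ring]
    rw [eq_sub_of_add_eq (add_comm _ _ |>.trans hs)]
    module

include hf in
theorem zsmul_add_eq_zero (n : ℤ) (hn : ∀ x : A, n • x = 0) (x : A) : n • (f x + f (-x)) = 0 := by
  have h0 := map_zsmul f hf n x
  have h1 := map_zsmul f hf (n + 1) x
  rw [hn, map_zero f hf] at h0
  rw [add_smul, hn, zero_add, one_smul] at h1
  obtain ⟨a, ha⟩ := Int.even_mul_succ_self n
  obtain ⟨b, hb⟩ := Int.even_mul_pred_self n
  rw [show n * (n + 1) = a * 2 by linarith, show n * (n - 1) = b * 2 by linarith,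
    Int.mul_ediv_cancel _ (by norm_num : (2:ℤ) ≠ 0), Int.mul_ediv_cancel _ (by norm_num : (2:ℤ) ≠ 0)] at h0
  rw [show (n + 1) * (n + 1 + 1) = (a + n + 1) * 2 by linarith, show (n + 1) * (n + 1 - 1) = (b + n) * 2 by linarith,
    Int.mul_ediv_cancel _ (by norm_num : (2:ℤ) ≠ 0), Int.mul_ediv_cancel _ (by norm_num : (2:ℤ) ≠ 0)] at h1
  calc n • (f x + f (-x)) = ((a + n + 1) • f x + (b + n) • f (-x)) - f x - (a • f x + b • f (-x)) := by module
    _ = 0 := by rw [← h1, ← h0]; simp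

end Groth.Agent.DegTwoLib
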